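import Groth.Agent.BcBridge.Et

/-! cohomology of the derived base change morphism on a single sheaf is `bcQ` -/

set_option autoImplicit false
set_option linter.style.haveILetI false

universe u

open CategoryTheory CategoryTheory.Limits AlgebraicGeometry HomologicalComplex

attribute [local instance] HasDerivedCategory.standard

namespace Groth.Agent.BcBridge

set_option backward.isDefEq.respectTransparency.types false

variable {X S X' S' : Scheme.{u}} (f : X ⟶ S) (g : S' ⟶ S) (f' : X' ⟶ S') (g' : X' ⟶ X) (w : g' ≫ f = f' ≫ g)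
  [PreservesFiniteLimits (EtCoh.pull g)] [PreservesFiniteLimits (EtCoh.pull g')] (F : EtCoh.Ab X)

omit [PreservesFiniteLimits (EtCoh.pull g)] in
/-- a quasi-isomorphism from the inverse image of a resolution to a resolution -/
theorem exists_resolution_map (I : InjectiveResolution F) (J : InjectiveResolution ((EtCoh.pull g').obj F)) :
    ∃ ρ : ((EtCoh.pull g').mapHomologicalComplex (ComplexShape.up ℕ)).obj I.cocomplex ⟶ J.cocomplex,
      QuasiIso ρ ∧ (EtCoh.pull g').map (I.ι.f 0) ≫ ρ.f 0 = J.ι.f 0 := by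
  haveI : QuasiIso (RDer.mapAug (EtCoh.pull g') I.ι) := inferInstance
  let ρ := RDer.descToInjectives (𝟙 ((EtCoh.pull g').obj F)) _ (RDer.mapAug (EtCoh.pull g') I.ι) J.cocomplex J.ι
  have h₁ : (RDer.mapAug (EtCoh.pull g') I.ι).f 0 ≫ ρ.f 0 = 𝟙 _ ≫ J.ι.f 0 :=
    RDer.ι_descToInjectives_f_zero _ _ _ _ _
  refine ⟨ρ, ?_, ?_⟩
  · haveI : QuasiIso (RDer.mapAug (EtCoh.pull g') I.ι ≫ ρ) := by
      have : RDer.mapAug (EtCoh.pull g') I.ι ≫ ρ = J.ι :=
        HomologicalComplex.from_single_hom_ext (h₁.trans (Category.id_comp _))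
      rw [this]
      infer_instance
    exact quasiIso_of_comp_left (RDer.mapAug (EtCoh.pull g') I.ι) ρ
  · refine Eq.trans ?_ (h₁.trans (Category.id_comp _))
    refine congrArg (· ≫ ρ.f 0) ?_
    simp [RDer.mapAug]
    erw [Category.id_comp]

theorem unit_step {B D : Type*} [Category* B] [Category* D] {G : B ⥤ D} {T : D ⥤ B} (adj : G ⊣ T) {a b : B}
    {c : D} (x : a ⟶ b) (y : G.obj b ⟶ c) :
    x ≫ adj.unit.app b ≫ T.map y = adj.unit.app a ≫ T.map (G.map x ≫ y) := by
  rw [T.map_comp, ← Category.assoc, ← Category.assoc]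
  exact congrArg (· ≫ T.map y) (adj.unit.naturality x)

set_option backward.isDefEq.respectTransparency false in
set_option maxHeartbeats 1000000 in
/-- `bcQ` is the homology of the chain map -/
theorem nonempty_bcQ_arrowIso (I : InjectiveResolution F) (J : InjectiveResolution ((EtCoh.pull g').obj F))
    (ρ : ((EtCoh.pull g').mapHomologicalComplex (ComplexShape.up ℕ)).obj I.cocomplex ⟶ J.cocomplex)
    (hρ : (EtCoh.pull g').map (I.ι.f 0) ≫ ρ.f 0 = J.ι.f 0) (q : ℕ) :
    Nonempty (Arrow.mk (EtBC.bcQ f g f' g' w q F) ≅ Arrow.mk (homologyMap (bcChain f g f' g' w ρ) q)) := by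
  haveI := BcMapZero.preservesFiniteLimits_push g
  let adjg := EtCoh.pullPushAdj g
  let adj' := EtCoh.pullPushAdj g'
  let r := etaCx adj' I.cocomplex ≫ ((EtCoh.push g').mapHomologicalComplex (ComplexShape.up ℕ)).map ρ
  have hr : I.ι.f 0 ≫ r.f 0 = adj'.unit.app F ≫ (EtCoh.push g').map (J.ι.f 0) := by
    refine (unit_step adj' (I.ι.f 0) (ρ.f 0)).trans ?_
    exact congrArg (fun t => adj'.unit.app F ≫ (EtCoh.push g').map t) hρ
  have h := RDerBC.bcGen_eq (EtCoh.push g') (EtCoh.push f) (EtCoh.push f') (EtCoh.push g)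
    (EtBC.sqIso f g f' g' w) (adj'.unit.app F) I J r hr q
  have hcx : RDerBC.cxMap (EtCoh.push g') (EtCoh.push f) (EtCoh.push f') (EtCoh.push g)
      (EtBC.sqIso f g f' g' w) r = preCx (EtBC.pushToPushPull f g f' g' w) ρ := by
    refine HomologicalComplex.hom_ext _ _ fun n => ?_
    show (EtCoh.push f).map (adj'.unit.app (I.cocomplex.X n) ≫ (EtCoh.push g').map (ρ.f n)) ≫
        (EtBC.sqIso f g f' g' w).hom.app (J.cocomplex.X n) =
      (EtBC.pushToPushPull f g f' g' w).app (I.cocomplex.X n) ≫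
        (EtCoh.push g).map ((EtCoh.push f').map (ρ.f n))
    have e := (EtBC.sqIso f g f' g' w).hom.naturality (ρ.f n)
    simp only [Functor.comp_map] at e
    rw [Functor.map_comp, Category.assoc, e]
    simp [EtBC.pushToPushPull, EtBC.sqIso, adj']
    rfl
  rw [hcx] at h
  have hb : EtBC.bcQ f g f' g' w q F = (EtCoh.pull g).map (I.isoRightDerivedObj (EtCoh.push f) q).hom ≫
      (adjg.homEquiv _ _).symm (homologyMap (preCx (EtBC.pushToPushPull f g f' g' w) ρ) q ≫
        RDer.homologyComparison (EtCoh.push g) _ q) ≫ (J.isoRightDerivedObj (EtCoh.push f') q).inv := by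
    unfold EtBC.bcQ
    rw [EtBC.bcQAdj_eq, h, adjg.homEquiv_naturality_left_symm, ← Category.assoc (homologyMap _ q),
      adjg.homEquiv_naturality_right_symm]
  have hf : homologyMap (bcChain f g f' g' w ρ) q =
      RDer.homologyComparison (EtCoh.pull g) _ q ≫ (adjg.homEquiv _ _).symm
        (homologyMap (preCx (EtBC.pushToPushPull f g f' g' w) ρ) q ≫ RDer.homologyComparison (EtCoh.push g) _ q) := by
    rw [← homologyMap_flat adjg, flat_preCx]
  haveI := isIso_homologyComparison (G := EtCoh.pull g)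
    (((EtCoh.push f).mapHomologicalComplex (ComplexShape.up ℕ)).obj I.cocomplex) q
  refine ⟨Arrow.isoMk ((EtCoh.pull g).mapIso (I.isoRightDerivedObj (EtCoh.push f) q) ≪≫
    (asIso (RDer.homologyComparison (EtCoh.pull g)
      (((EtCoh.push f).mapHomologicalComplex (ComplexShape.up ℕ)).obj I.cocomplex) q)).symm)
    (J.isoRightDerivedObj (EtCoh.push f') q) ?_⟩
  simp only [Arrow.mk_hom, Iso.trans_hom, Iso.symm_hom, Functor.mapIso_hom, asIso_inv]
  rw [hb, hf]
  simp
  rfl

variable [DCoh.HasRpushEt X f] [DCoh.HasRpushEt X' f'] [DCoh.HasRpushEt S' g]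
  (adj : EtBC.pullD g ⊣ DCoh.RpushEt S' g)

/-- a single sheaf is its resolution -/
noncomputable def singleIsoRes (I : InjectiveResolution F) : EtBC.single X F ≅ qq I.cochainComplex :=
  @asIso _ _ _ _ (DerivedCategory.Qh.map ((HomotopyCategory.quotient (EtCoh.Ab X) (ComplexShape.up ℤ)).map I.ι'))
    (isIso_qm I.ι')

/-- the cohomology of the base change morphism of a single sheaf -/
theorem nonempty_homology_bcMap_arrowIso (q : ℕ) :
    Nonempty (Arrow.mk ((DerivedCategory.homologyFunctor (EtCoh.Ab S') (q : ℤ)).map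
      (EtBC.bcMap f g f' g' w adj (EtBC.single X F))) ≅ Arrow.mk (EtBC.bcQ f g f' g' w q F)) := by
  let I := injectiveResolution F
  let J := injectiveResolution ((EtCoh.pull g').obj F)
  obtain ⟨ρ, hρ, hρ0⟩ := exists_resolution_map g' F I J
  haveI := hρ
  haveI : I.cochainComplex.IsKInjective := CochainComplex.isKInjective_of_injective _ 0
  haveI : J.cochainComplex.IsKInjective := CochainComplex.isKInjective_of_injective _ 0
  haveI : CochainComplex.IsKInjective (J.cocomplex.extend ComplexShape.embeddingUpNat) :=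
    inferInstanceAs (J.cochainComplex.IsKInjective)
  haveI : CochainComplex.IsKInjective (I.cocomplex.extend ComplexShape.embeddingUpNat) :=
    inferInstanceAs (I.cochainComplex.IsKInjective)
  obtain ⟨a⟩ := nonempty_homology_arrowIso f g f' g' w adj (I.cocomplex.extend ComplexShape.embeddingUpNat)
    (J.cocomplex.extend ComplexShape.embeddingUpNat) (extMap ComplexShape.embeddingUpNat ρ) (singleIsoRes F I) (q : ℤ)
  obtain ⟨b⟩ := nonempty_bcQ_arrowIso f g f' g' w F I J ρ hρ0 q
  exact ⟨a ≪≫ bcCxHomologyArrowIso _ _ ComplexShape.embeddingUpNat ρ (j := q) rfl ≪≫ b.symm⟩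

theorem isIso_homology_bcMap_iff (q : ℕ) :
    IsIso ((DerivedCategory.homologyFunctor (EtCoh.Ab S') (q : ℤ)).map
      (EtBC.bcMap f g f' g' w adj (EtBC.single X F))) ↔ IsIso (EtBC.bcQ f g f' g' w q F) := by
  obtain ⟨a⟩ := nonempty_homology_bcMap_arrowIso f g f' g' w F adj q
  exact (MorphismProperty.isomorphisms _).arrow_mk_iso_iff a

theorem mono_homology_bcMap_iff (q : ℕ) :
    Mono ((DerivedCategory.homologyFunctor (EtCoh.Ab S') (q : ℤ)).map
      (EtBC.bcMap f g f' g' w adj (EtBC.single X F))) ↔ Mono (EtBC.bcQ f g f' g' w q F) := by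
  obtain ⟨a⟩ := nonempty_homology_bcMap_arrowIso f g f' g' w F adj q
  exact (MorphismProperty.monomorphisms _).arrow_mk_iso_iff a

theorem isIso_homology_bcMap_neg (q : ℤ) (hq : q < 0) :
    IsIso ((DerivedCategory.homologyFunctor (EtCoh.Ab S') q).map
      (EtBC.bcMap f g f' g' w adj (EtBC.single X F))) := by
  let I := injectiveResolution F
  let J := injectiveResolution ((EtCoh.pull g').obj F)
  obtain ⟨ρ, hρ, -⟩ := exists_resolution_map g' F I J
  haveI := hρ
  haveI : CochainComplex.IsKInjective (J.cocomplex.extend ComplexShape.embeddingUpNat) :=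
    CochainComplex.isKInjective_of_injective J.cochainComplex 0
  haveI : CochainComplex.IsKInjective (I.cocomplex.extend ComplexShape.embeddingUpNat) :=
    CochainComplex.isKInjective_of_injective I.cochainComplex 0
  obtain ⟨a⟩ := nonempty_homology_arrowIso f g f' g' w adj (I.cocomplex.extend ComplexShape.embeddingUpNat)
    (J.cocomplex.extend ComplexShape.embeddingUpNat) (extMap ComplexShape.embeddingUpNat ρ) (singleIsoRes F I) q
  refine ((MorphismProperty.isomorphisms _).arrow_mk_iso_iff a).2 ?_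
  have hne : ∀ k : ℕ, ComplexShape.embeddingUpNat.f k ≠ q := fun k hk => by
    change (k : ℤ) = q at hk
    lia
  have z : ∀ (K : CochainComplex (EtCoh.Ab S') ℤ), IsZero (K.X q) → IsZero (K.homology q) := fun K hK =>
    (K.exactAt_iff_isZero_homology q).1 (ShortComplex.exact_of_isZero_X₂ _ hK)
  refine ⟨⟨(z _ ?_).to_ _, (z _ ?_).eq_of_src _ _, (z _ ?_).eq_of_src _ _⟩⟩
  · exact (EtCoh.push f').map_isZero (isZero_extend_X _ _ _ hne)
  · exact (EtCoh.pull g).map_isZero ((EtCoh.push f).map_isZero (isZero_extend_X _ _ _ hne))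
  · exact (EtCoh.push f').map_isZero (isZero_extend_X _ _ _ hne)

end Groth.Agent.BcBridge
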