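import Groth.Agent.BcBridge.Flat
import Groth.Agent.BcMapZero.Square

/-! a derived square at a K-injective complex is the transposed map of complexes -/

set_option autoImplicit false
set_option linter.style.haveILetI false
set_option linter.unusedSectionVars false
set_option backward.isDefEq.respectTransparency.types false

open CategoryTheory CategoryTheory.Limits

namespace Groth.Agent.BcBridge

universe wA wB wC wD vA vB vC vD uA uB uC uD

variable {A : Type uA} [Category.{vA} A] [Abelian A] [HasDerivedCategory.{wA} A]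
variable {B : Type uB} [Category.{vB} B] [Abelian B] [HasDerivedCategory.{wB} B]
variable {C : Type uC} [Category.{vC} C] [Abelian C] [HasDerivedCategory.{wC} C]
variable {D : Type uD} [Category.{vD} D] [Abelian D] [HasDerivedCategory.{wD} D]

local notation "q" => HomotopyCategory.quotient _ (ComplexShape.up ℤ)

/-- a complex in the derived category -/
noncomputable abbrev qq (K : CochainComplex A ℤ) : DerivedCategory A :=
  DerivedCategory.Qh.obj ((HomotopyCategory.quotient A (ComplexShape.up ℤ)).obj K)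

/-- a map of complexes in the derived category -/
noncomputable abbrev qm {K L : CochainComplex A ℤ} (f : K ⟶ L) : qq K ⟶ qq L :=
  DerivedCategory.Qh.map ((HomotopyCategory.quotient A (ComplexShape.up ℤ)).map f)

theorem qm_comp {K L M : CochainComplex A ℤ} (f : K ⟶ L) (g : L ⟶ M) : qm (f ≫ g) = qm f ≫ qm g := by
  simp only [qm, Functor.map_comp]

theorem isIso_qm {K L : CochainComplex A ℤ} (f : K ⟶ L) [QuasiIso f] : IsIso (qm f) :=
  (NatIso.isIso_map_iff (DerivedCategory.quotientCompQhIso A) f).2 inferInstance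

section Theta

variable {G : B ⥤ D} [G.Additive] [PreservesFiniteLimits G] [PreservesFiniteColimits G]
  {T : D ⥤ B} [T.Additive] (adj : G ⊣ T) (RT : DerivedCategory D ⥤ DerivedCategory B)
  (αT : T.mapHomotopyCategory (ComplexShape.up ℤ) ⋙ DerivedCategory.Qh ⟶ DerivedCategory.Qh ⋙ RT)
  (adjD : G.mapDerivedCategory ⊣ RT)

/-- `αT` on a complex -/
noncomputable abbrev unitAt (M : CochainComplex D ℤ) :
    qq ((T.mapHomologicalComplex (ComplexShape.up ℤ)).obj M) ⟶ RT.obj (qq M) :=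
  αT.app ((HomotopyCategory.quotient D (ComplexShape.up ℤ)).obj M)

theorem unitAt_natural {M N : CochainComplex D ℤ} (ψ : M ⟶ N) :
    qm ((T.mapHomologicalComplex (ComplexShape.up ℤ)).map ψ) ≫ unitAt RT αT N = unitAt RT αT M ≫ RT.map (qm ψ) :=
  αT.naturality ((HomotopyCategory.quotient D (ComplexShape.up ℤ)).map ψ)

/-- the comparison of the two inverse images of a complex -/
noncomputable def thetaMor (K : CochainComplex B ℤ) :
    G.mapDerivedCategory.obj (qq K) ⟶ qq ((G.mapHomologicalComplex (ComplexShape.up ℤ)).obj K) :=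
  (adjD.homEquiv _ _).symm (qm (etaCx adj K) ≫ unitAt RT αT _)

theorem thetaMor_comp {K : CochainComplex B ℤ} {M : CochainComplex D ℤ}
    (ψ : (G.mapHomologicalComplex (ComplexShape.up ℤ)).obj K ⟶ M) :
    thetaMor adj RT αT adjD K ≫ qm ψ = (adjD.homEquiv _ _).symm
      (qm (etaCx adj K ≫ (T.mapHomologicalComplex (ComplexShape.up ℤ)).map ψ) ≫ unitAt RT αT M) := by
  rw [thetaMor, ← adjD.homEquiv_naturality_right_symm, Category.assoc, ← unitAt_natural, qm_comp, Category.assoc]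

theorem thetaMor_flat {K : CochainComplex B ℤ} {M : CochainComplex D ℤ}
    (χ : K ⟶ (T.mapHomologicalComplex (ComplexShape.up ℤ)).obj M) :
    (adjD.homEquiv _ _).symm (qm χ ≫ unitAt RT αT M) = thetaMor adj RT αT adjD K ≫ qm (flat adj χ) := by
  rw [thetaMor_comp, etaCx_flat]

variable (hT : ∀ (I : CochainComplex D ℤ) [I.IsKInjective], IsIso (unitAt RT αT I))
  (hTK : ∀ (I : CochainComplex D ℤ) [I.IsKInjective],
    CochainComplex.IsKInjective ((T.mapHomologicalComplex (ComplexShape.up ℤ)).obj I))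

include hT hTK in
theorem bijective_thetaMor_comp (K : CochainComplex B ℤ) (M : CochainComplex D ℤ) [M.IsKInjective] :
    Function.Bijective fun φ : qq ((G.mapHomologicalComplex (ComplexShape.up ℤ)).obj K) ⟶ qq M =>
      thetaMor adj RT αT adjD K ≫ φ := by
  haveI := hT M
  haveI := hTK M
  refine ⟨fun φ φ' h => ?_, fun y => ?_⟩
  · obtain ⟨ψ', rfl⟩ := (CochainComplex.IsKInjective.Qh_map_bijective _ M).2 φ
    obtain ⟨ψ, rfl⟩ := (HomotopyCategory.quotient D _).map_surjective ψ'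
    obtain ⟨χ', rfl⟩ := (CochainComplex.IsKInjective.Qh_map_bijective _ M).2 φ'
    obtain ⟨χ, rfl⟩ := (HomotopyCategory.quotient D _).map_surjective χ'
    change thetaMor adj RT αT adjD K ≫ qm ψ = thetaMor adj RT αT adjD K ≫ qm χ at h
    rw [thetaMor_comp, thetaMor_comp] at h
    have h2 := (CochainComplex.IsKInjective.Qh_map_bijective _ _).1
      ((cancel_mono (unitAt RT αT M)).1 ((adjD.homEquiv _ _).symm.injective h))
    have H := flatHomotopy adj (HomotopyCategory.homotopyOfEq _ _ h2)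
    rw [flat_etaCx, flat_etaCx] at H
    exact congrArg DerivedCategory.Qh.map (HomotopyCategory.eq_of_homotopy _ _ H)
  · obtain ⟨χ', hχ⟩ := (CochainComplex.IsKInjective.Qh_map_bijective _
      ((T.mapHomologicalComplex (ComplexShape.up ℤ)).obj M)).2 ((adjD.homEquiv _ _) y ≫ inv (unitAt RT αT M))
    obtain ⟨χ, rfl⟩ := (HomotopyCategory.quotient B _).map_surjective χ'
    refine ⟨qm (flat adj χ), ?_⟩
    refine (thetaMor_flat adj RT αT adjD χ).symm.trans ?_
    rw [show qm χ = _ from hχ, Category.assoc, IsIso.inv_hom_id, Category.comp_id, Equiv.symm_apply_apply]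

include hT hTK in
theorem isIso_thetaMor (K : CochainComplex B ℤ) (M : CochainComplex D ℤ) [M.IsKInjective]
    (μ : (G.mapHomologicalComplex (ComplexShape.up ℤ)).obj K ⟶ M) [QuasiIso μ] :
    IsIso (thetaMor adj RT αT adjD K) := by
  haveI := isIso_qm μ
  let e : G.mapDerivedCategory.obj (qq K) ≅ qq M :=
    G.mapDerivedCategoryFactorsh.app ((HomotopyCategory.quotient B (ComplexShape.up ℤ)).obj K) ≪≫ @asIso _ _ _ _ (qm μ) ‹_›
  have hb := bijective_thetaMor_comp adj RT αT adjD hT hTK K M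
  let t : qq M ⟶ qq M := e.inv ≫ thetaMor adj RT αT adjD K ≫ qm μ
  obtain ⟨φ, hφ⟩ := hb.2 e.hom
  have h1 : t ≫ inv (qm μ) ≫ φ = 𝟙 _ := by
    simp only [t, Category.assoc, IsIso.hom_inv_id_assoc]
    rw [show thetaMor adj RT αT adjD K ≫ φ = e.hom from hφ, Iso.inv_hom_id]
  have hinj : ∀ a b : qq M ⟶ qq M, t ≫ a = t ≫ b → a = b := fun a b hab => by
    simp only [t, Category.assoc] at hab
    exact (cancel_epi (qm μ)).1 (hb.1 ((cancel_epi e.inv).1 hab))
  haveI : IsIso t := ⟨inv (qm μ) ≫ φ, h1, hinj _ _ (by rw [Category.comp_id, ← Category.assoc, h1, Category.id_comp])⟩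
  have : thetaMor adj RT αT adjD K = e.hom ≫ t ≫ inv (qm μ) := by
    simp only [t, Category.assoc, Iso.hom_inv_id_assoc, IsIso.hom_inv_id, Category.comp_id]
  rw [this]
  infer_instance

end Theta

section Main

variable (P : A ⥤ B) [P.Additive] (Q : A ⥤ C) [Q.Additive] [PreservesFiniteLimits Q] [PreservesFiniteColimits Q]
  (S : C ⥤ D) [S.Additive] (T : D ⥤ B) [T.Additive] (ptp : P ⟶ Q ⋙ S ⋙ T)
  {G : B ⥤ D} [G.Additive] [PreservesFiniteLimits G] [PreservesFiniteColimits G] (adj : G ⊣ T)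
  (RS : DerivedCategory C ⥤ DerivedCategory D)
  (αS : S.mapHomotopyCategory (ComplexShape.up ℤ) ⋙ DerivedCategory.Qh ⟶ DerivedCategory.Qh ⋙ RS)
  (RT : DerivedCategory D ⥤ DerivedCategory B)
  (αT : T.mapHomotopyCategory (ComplexShape.up ℤ) ⋙ DerivedCategory.Qh ⟶ DerivedCategory.Qh ⋙ RT)

/-- the identification of the inverse image of a complex followed by a map -/
noncomputable abbrev pullTo {I : CochainComplex A ℤ} {J : CochainComplex C ℤ}
    (σ : (Q.mapHomologicalComplex (ComplexShape.up ℤ)).obj I ⟶ J) : Q.mapDerivedCategory.obj (qq I) ⟶ qq J :=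
  Q.mapDerivedCategoryFactorsh.hom.app ((HomotopyCategory.quotient A (ComplexShape.up ℤ)).obj I) ≫ qm σ

theorem tripleH_comp {I : CochainComplex A ℤ} {J : CochainComplex C ℤ}
    (σ : (Q.mapHomologicalComplex (ComplexShape.up ℤ)).obj I ⟶ J) :
    (BcMapZero.tripleH P Q S T ptp).app ((HomotopyCategory.quotient A (ComplexShape.up ℤ)).obj I) ≫
      (HomotopyCategory.quotient B (ComplexShape.up ℤ)).map
        ((T.mapHomologicalComplex (ComplexShape.up ℤ)).map ((S.mapHomologicalComplex (ComplexShape.up ℤ)).map σ)) =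
    (HomotopyCategory.quotient B (ComplexShape.up ℤ)).map (preCx ptp σ) := by
  show ((q).map ((NatTrans.mapHomologicalComplex ptp (ComplexShape.up ℤ)).app I) ≫
      (q).map ((Functor.mapHomologicalComplexCompIso (Iso.refl (Q ⋙ (S ⋙ T))) (ComplexShape.up ℤ)).inv.app I) ≫
      (q).map ((Functor.mapHomologicalComplexCompIso (Iso.refl (S ⋙ T)) (ComplexShape.up ℤ)).inv.app
        ((Q.mapHomologicalComplex (ComplexShape.up ℤ)).obj I))) ≫ (q).map _ = (q).map _
  simp only [← Functor.map_comp]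
  refine congrArg (q).map ?_
  ext n
  simp [preCx]
  erw [Category.id_comp, Category.id_comp]
  rfl

theorem chain {EC : Type*} [Category* EC] {ED : Type*} [Category* ED] {EB : Type*} [Category* EB]
    {RS : EC ⥤ ED} {RT : ED ⥤ EB} {b₁ b₂ b₃ : EB} {c₀ c₁ c₂ : EC} {d₁ d₂ : ED}
    {bP : b₁ ⟶ RT.obj (RS.obj c₀)} {pp : b₁ ⟶ b₂} {aT₁ : b₂ ⟶ RT.obj d₁} {aS₁ : d₁ ⟶ RS.obj c₁}
    {fi : c₁ ⟶ c₀} {fh : c₀ ⟶ c₁} {sh : c₁ ⟶ c₂} {shD : d₁ ⟶ d₂} {shB : b₂ ⟶ b₃} {aT₂ : b₃ ⟶ RT.obj d₂}
    {aS₂ : d₂ ⟶ RS.obj c₂} {cc : b₁ ⟶ b₃} (h₂ : bP = pp ≫ aT₁ ≫ RT.map aS₁ ≫ RT.map (RS.map fi))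
    (h₃ : fi ≫ fh = 𝟙 _) (h₄ : shD ≫ aS₂ = aS₁ ≫ RS.map sh) (h₅ : shB ≫ aT₂ = aT₁ ≫ RT.map shD)
    (h₀ : pp ≫ shB = cc) :
    bP ≫ RT.map (RS.map (fh ≫ sh)) = cc ≫ aT₂ ≫ RT.map aS₂ := by
  rw [h₂, ← h₀]
  simp only [Category.assoc, ← Functor.map_comp]
  rw [reassoc_of% h₃, ← h₄, reassoc_of% h₅, ← RT.map_comp]

variable {RP : DerivedCategory A ⥤ DerivedCategory B}
  {αP : P.mapHomotopyCategory (ComplexShape.up ℤ) ⋙ DerivedCategory.Qh ⟶ DerivedCategory.Qh ⋙ RP}
  {β : RP ⟶ Q.mapDerivedCategory ⋙ RS ⋙ RT}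
  (hβ : ∀ K, αP.app K ≫ β.app (DerivedCategory.Qh.obj K) = (BcMapZero.squareUnit P Q S T ptp RS αS RT αT).app K)

include hβ in
theorem beta_comp {I : CochainComplex A ℤ} {J : CochainComplex C ℤ}
    (σ : (Q.mapHomologicalComplex (ComplexShape.up ℤ)).obj I ⟶ J) :
    unitAt RP αP I ≫ β.app (qq I) ≫ RT.map (RS.map (pullTo Q σ)) =
      qm (preCx ptp σ) ≫ unitAt RT αT _ ≫ RT.map (unitAt RS αS J) := by
  rw [← Category.assoc]
  refine chain (RS := RS) (RT := RT) (h₂ := ?_) (fi := Q.mapDerivedCategoryFactorsh.inv.app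
      ((HomotopyCategory.quotient A (ComplexShape.up ℤ)).obj I))
    (h₃ := Iso.inv_hom_id_app _ _) (h₄ := unitAt_natural RS αS σ)
    (h₅ := unitAt_natural RT αT ((S.mapHomologicalComplex (ComplexShape.up ℤ)).map σ))
    (h₀ := (DerivedCategory.Qh.map_comp _ _).symm.trans (congrArg DerivedCategory.Qh.map (tripleH_comp P Q S T ptp σ)))
  refine (hβ _).trans ?_
  simp [BcMapZero.squareUnit]
  rfl

variable (adjD : G.mapDerivedCategory ⊣ RT)

include hβ in
/-- the derived transpose at a K-injective complex -/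
theorem symm_beta_eq {I : CochainComplex A ℤ} {J : CochainComplex C ℤ}
    (σ : (Q.mapHomologicalComplex (ComplexShape.up ℤ)).obj I ⟶ J) :
    G.mapDerivedCategory.map (unitAt RP αP I) ≫ (adjD.homEquiv _ _).symm (β.app (qq I)) ≫ RS.map (pullTo Q σ) =
      thetaMor adj RT αT adjD _ ≫ qm (bcCx adj ptp σ) ≫ unitAt RS αS J := by
  rw [← adjD.homEquiv_naturality_right_symm, ← adjD.homEquiv_naturality_left_symm]
  refine (congrArg (adjD.homEquiv _ _).symm (beta_comp P Q S T ptp RS αS RT αT hβ σ)).trans ?_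
  rw [← Category.assoc, adjD.homEquiv_naturality_right_symm, thetaMor_flat, flat_preCx, Category.assoc]

include hβ in
/-- up to isomorphisms the derived transpose is the transposed map of complexes -/
theorem exists_arrow_eq {I : CochainComplex A ℤ} {J : CochainComplex C ℤ}
    (σ : (Q.mapHomologicalComplex (ComplexShape.up ℤ)).obj I ⟶ J) [QuasiIso σ]
    (hP : IsIso (unitAt RP αP I)) (hS : IsIso (unitAt RS αS J))
    (hT : ∀ (I : CochainComplex D ℤ) [I.IsKInjective], IsIso (unitAt RT αT I))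
    (hTK : ∀ (I : CochainComplex D ℤ) [I.IsKInjective],
      CochainComplex.IsKInjective ((T.mapHomologicalComplex (ComplexShape.up ℤ)).obj I))
    (M : CochainComplex D ℤ) [M.IsKInjective]
    (μ : (G.mapHomologicalComplex (ComplexShape.up ℤ)).obj ((P.mapHomologicalComplex (ComplexShape.up ℤ)).obj I) ⟶ M)
    [QuasiIso μ] :
    Nonempty (Arrow.mk ((adjD.homEquiv _ _).symm (β.app (qq I))) ≅ Arrow.mk (qm (bcCx adj ptp σ))) := by
  haveI := isIso_thetaMor adj RT αT adjD hT hTK _ M μ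
  haveI : IsIso (pullTo Q σ) := by
    exact IsIso.comp_isIso' inferInstance (isIso_qm σ)
  refine ⟨Arrow.isoMk ((G.mapDerivedCategory.mapIso (asIso (unitAt RP αP I))).symm ≪≫
      asIso (thetaMor adj RT αT adjD _)) (RS.mapIso (asIso (pullTo Q σ)) ≪≫ (asIso (unitAt RS αS J)).symm) ?_⟩
  have h := symm_beta_eq P Q S T ptp adj RS αS RT αT hβ adjD σ
  simp only [Iso.trans_hom, Iso.symm_hom, Functor.mapIso_inv, Functor.mapIso_hom, asIso_inv, asIso_hom, Arrow.mk_hom]
  rw [Functor.map_inv]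
  simp only [Category.assoc]
  rw [IsIso.inv_comp_eq, reassoc_of% h, IsIso.hom_inv_id]
  simp

end Main

end Groth.Agent.BcBridge
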