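import Groth.Agent.BcBridge.Flat
import Groth.Agent.TriCat.MapExtend
import Mathlib.Algebra.Homology.Embedding.ExtendHomology
import Mathlib.CategoryTheory.Comma.Arrow

/-! transposed maps of complexes commute with extension by zero -/

set_option autoImplicit false
set_option linter.style.haveILetI false
set_option linter.unusedSectionVars false
set_option backward.isDefEq.respectTransparency false
set_option backward.isDefEq.respectTransparency.types false

open CategoryTheory CategoryTheory.Limits HomologicalComplex

namespace Groth.Agent.BcBridge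

universe vA vB vC vD uA uB uC uD

variable {A : Type uA} [Category.{vA} A] [Abelian A] {B : Type uB} [Category.{vB} B] [Abelian B]
  {C : Type uC} [Category.{vC} C] [Abelian C] {D : Type uD} [Category.{vD} D] [Abelian D]
  {P : A ⥤ B} {Q : A ⥤ C} {S : C ⥤ D} {T : D ⥤ B} {G : B ⥤ D} (adj : G ⊣ T) (ptp : P ⟶ Q ⋙ S ⋙ T)
  [P.Additive] [Q.Additive] [S.Additive] [G.Additive] [T.Additive]
  {ι ι' : Type} {c : ComplexShape ι} {c' : ComplexShape ι'} (e : c.Embedding c')

/-- the extension of a map out of an inverse image -/
noncomputable def extMap {K : HomologicalComplex A c} {L : HomologicalComplex C c}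
    (σ : (Q.mapHomologicalComplex c).obj K ⟶ L) : (Q.mapHomologicalComplex c').obj (K.extend e) ⟶ L.extend e :=
  (TriCat.mapExtendIso Q e K).hom ≫ extendMap σ e

instance {K : HomologicalComplex A c} {L : HomologicalComplex C c}
    (σ : (Q.mapHomologicalComplex c).obj K ⟶ L) [QuasiIso σ] : QuasiIso (extMap e σ) := by
  unfold extMap
  infer_instance

theorem bcCx_extMap {K : HomologicalComplex A c} {L : HomologicalComplex C c}
    (σ : (Q.mapHomologicalComplex c).obj K ⟶ L) :
    bcCx adj ptp (extMap e σ) ≫ (TriCat.mapExtendIso S e L).hom =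
      (G.mapHomologicalComplex c').map (TriCat.mapExtendIso P e K).hom ≫
        (TriCat.mapExtendIso G e ((P.mapHomologicalComplex c).obj K)).hom ≫ extendMap (bcCx adj ptp σ) e := by
  ext i'
  show ((theta adj ptp).app (HomologicalComplex.extend.X K (e.r i')) ≫
      S.map ((TriCat.mapExtendXIso Q K (e.r i')).hom ≫ HomologicalComplex.extend.mapX σ (e.r i'))) ≫
        (TriCat.mapExtendXIso S L (e.r i')).hom =
    G.map (TriCat.mapExtendXIso P K (e.r i')).hom ≫
      (TriCat.mapExtendXIso G ((P.mapHomologicalComplex c).obj K) (e.r i')).hom ≫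
        HomologicalComplex.extend.mapX (bcCx adj ptp σ) (e.r i')
  generalize e.r i' = o
  cases o with
  | none => exact (HomologicalComplex.extend.isZero_X _ rfl).eq_of_tgt _ _
  | some i =>
    simp [TriCat.mapExtendXIso, HomologicalComplex.extend.mapX, bcCx]
    rfl

/-- homology of the extended transposed map -/
noncomputable def bcCxHomologyArrowIso {K : HomologicalComplex A c} {L : HomologicalComplex C c}
    (σ : (Q.mapHomologicalComplex c).obj K ⟶ L) {j : ι} {j' : ι'} (hj : e.f j = j') :
    Arrow.mk (homologyMap (bcCx adj ptp (extMap e σ)) j') ≅ Arrow.mk (homologyMap (bcCx adj ptp σ) j) :=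
  Arrow.isoMk
    ((HomologicalComplex.homologyFunctor D c' j').mapIso
      ((G.mapHomologicalComplex c').mapIso (TriCat.mapExtendIso P e K) ≪≫
        TriCat.mapExtendIso G e ((P.mapHomologicalComplex c).obj K)) ≪≫ extendHomologyIso _ e hj)
    ((HomologicalComplex.homologyFunctor D c' j').mapIso (TriCat.mapExtendIso S e L) ≪≫ extendHomologyIso _ e hj) (by
      have h := congrArg (fun t => homologyMap t j') (bcCx_extMap adj ptp e σ)
      simp only [homologyMap_comp] at h
      simp only [Arrow.mk_hom, Iso.trans_hom, Functor.mapIso_hom, HomologicalComplex.homologyFunctor_map,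
        homologyMap_comp, Category.assoc]
      rw [reassoc_of% h, extendHomologyIso_hom_naturality])

end Groth.Agent.BcBridge
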