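import Groth.Agent.BcBridge.Derived
import Groth.Agent.BcBridge.Extend
import Groth.Agent.BcMapZero.Et
import Groth.Agent.EtBC.BcQ

/-! the derived base change morphism through chain maps, and its cohomology on a single sheaf -/

set_option autoImplicit false
set_option linter.style.haveILetI false

universe u

open CategoryTheory CategoryTheory.Limits AlgebraicGeometry HomologicalComplex

attribute [local instance] HasDerivedCategory.standard

namespace Groth.Agent.BcBridge

set_option backward.isDefEq.respectTransparency.types false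

variable {X S X' S' : Scheme.{u}} (f : X ⟶ S) (g : S' ⟶ S) (f' : X' ⟶ S') (g' : X' ⟶ X) (w : g' ≫ f = f' ≫ g)

instance additive_pull {U V : Scheme.{u}} (h : U ⟶ V) : (EtCoh.pull h).Additive :=
  (EtCoh.pullPushAdj h).left_adjoint_additive

instance additive_push {U V : Scheme.{u}} (h : U ⟶ V) : (EtCoh.push h).Additive :=
  (EtCoh.pullPushAdj h).right_adjoint_additive

instance preservesFiniteColimits_pull {U V : Scheme.{u}} (h : U ⟶ V) : PreservesFiniteColimits (EtCoh.pull h) :=
  BcMapZero.preservesFiniteColimits_pull h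

theorem theta_app (M : EtCoh.Ab X) :
    (theta (EtCoh.pullPushAdj g) (EtBC.pushToPushPull f g f' g' w)).app M = EtCoh.baseChange0 f g f' g' w M := by
  show ((EtCoh.pullPushAdj g).homEquiv _ _).symm _ = _
  unfold EtCoh.baseChange0
  refine congrArg ((EtCoh.pullPushAdj g).homEquiv _ _).symm ?_
  simp [EtBC.pushToPushPull]

/-- the chain map computing the base change morphism -/
noncomputable abbrev bcChain {ι : Type} {c : ComplexShape ι} {K : HomologicalComplex (EtCoh.Ab X) c}
    {L : HomologicalComplex (EtCoh.Ab X') c} (σ : ((EtCoh.pull g').mapHomologicalComplex c).obj K ⟶ L) :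
    ((EtCoh.pull g).mapHomologicalComplex c).obj (((EtCoh.push f).mapHomologicalComplex c).obj K) ⟶
      ((EtCoh.push f').mapHomologicalComplex c).obj L :=
  bcCx (EtCoh.pullPushAdj g) (EtBC.pushToPushPull f g f' g' w) σ

variable [PreservesFiniteLimits (EtCoh.pull g)] [PreservesFiniteLimits (EtCoh.pull g')]
  [DCoh.HasRpushEt X f] [DCoh.HasRpushEt X' f'] [DCoh.HasRpushEt S' g]
  (adj : EtBC.pullD g ⊣ DCoh.RpushEt S' g)

omit [PreservesFiniteLimits (EtCoh.pull g)] in
theorem bcAdj_fac (K : HomotopyCategory (EtCoh.Ab X) (ComplexShape.up ℤ)) :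
    (BcMapZero.rU f).app K ≫ (EtBC.bcAdj f g f' g' w).app (DerivedCategory.Qh.obj K) =
      (BcMapZero.squareUnit (EtCoh.push f) (EtCoh.pull g') (EtCoh.push f') (EtCoh.push g)
        (EtBC.pushToPushPull f g f' g' w)
        (DCoh.RpushEt X' f') (BcMapZero.rU f') (DCoh.RpushEt S' g) (BcMapZero.rU g)).app K :=
  (DCoh.RpushEt X f).rightDerived_fac_app (BcMapZero.rU f)
    (HomotopyCategory.quasiIso (EtCoh.Ab X) (ComplexShape.up ℤ))
    (EtBC.pullD g' ⋙ DCoh.RpushEt X' f' ⋙ DCoh.RpushEt S' g) (EtBC.bcUnit f g f' g' w) K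

/-- at a K-injective complex the base change morphism is the chain map -/
theorem nonempty_bcMap_arrowIso (I : CochainComplex (EtCoh.Ab X) ℤ) [I.IsKInjective]
    (J : CochainComplex (EtCoh.Ab X') ℤ) [J.IsKInjective]
    (σ : ((EtCoh.pull g').mapHomologicalComplex (ComplexShape.up ℤ)).obj I ⟶ J) [QuasiIso σ] :
    Nonempty (Arrow.mk (EtBC.bcMap f g f' g' w adj (qq I)) ≅ Arrow.mk (qm (bcChain f g f' g' w σ))) := by
  obtain ⟨M, μ, hM, hμ⟩ := S4329.Aux.exists_kInj S'
    (((EtCoh.pull g).mapHomologicalComplex (ComplexShape.up ℤ)).obj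
      (((EtCoh.push f).mapHomologicalComplex (ComplexShape.up ℤ)).obj I))
  exact exists_arrow_eq (EtCoh.push f) (EtCoh.pull g') (EtCoh.push f') (EtCoh.push g)
    (EtBC.pushToPushPull f g f' g' w) (EtCoh.pullPushAdj g) (DCoh.RpushEt X' f') (BcMapZero.rU f')
    (DCoh.RpushEt S' g) (BcMapZero.rU g) (bcAdj_fac f g f' g' w) adj σ (S4329.Aux.isIso_unit f I)
    (S4329.Aux.isIso_unit f' J) (fun I _ => S4329.Aux.isIso_unit g I) (fun I _ => S4329.Aux.isKInjective_push g I) M μ

/-- naturality of the base change morphism, as an isomorphism of arrows -/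
noncomputable def bcMapCongr {K K' : DCoh.DEt X} (e : K ≅ K') :
    Arrow.mk (EtBC.bcMap f g f' g' w adj K) ≅ Arrow.mk (EtBC.bcMap f g f' g' w adj K') :=
  Arrow.isoMk ((EtBC.pullD g).mapIso ((DCoh.RpushEt X f).mapIso e))
    ((DCoh.RpushEt X' f').mapIso ((EtBC.pullD g').mapIso e)) (by
    simp only [Arrow.mk_hom, Functor.mapIso_hom, EtBC.bcMap]
    refine (adj.homEquiv_naturality_left_symm _ _).symm.trans (Eq.trans ?_ (adj.homEquiv_naturality_right_symm _ _))
    exact congrArg _ ((EtBC.bcAdj f g f' g' w).naturality e.hom))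

/-- the cohomology functor on complexes -/
noncomputable def hqIso (Z : Scheme.{u}) (n : ℤ) :
    HomotopyCategory.quotient (EtCoh.Ab Z) (ComplexShape.up ℤ) ⋙ DerivedCategory.Qh ⋙
      DerivedCategory.homologyFunctor (EtCoh.Ab Z) n ≅
      HomologicalComplex.homologyFunctor (EtCoh.Ab Z) (ComplexShape.up ℤ) n :=
  (Functor.associator _ _ _).symm ≪≫ Functor.isoWhiskerRight (DerivedCategory.quotientCompQhIso (EtCoh.Ab Z)) _ ≪≫
    DerivedCategory.homologyFunctorFactors (EtCoh.Ab Z) n

/-- cohomology of the base change morphism at a K-injective complex -/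
theorem nonempty_homology_arrowIso (I : CochainComplex (EtCoh.Ab X) ℤ) [I.IsKInjective]
    (J : CochainComplex (EtCoh.Ab X') ℤ) [J.IsKInjective]
    (σ : ((EtCoh.pull g').mapHomologicalComplex (ComplexShape.up ℤ)).obj I ⟶ J) [QuasiIso σ] {K : DCoh.DEt X}
    (e : K ≅ qq I) (n : ℤ) :
    Nonempty (Arrow.mk ((DerivedCategory.homologyFunctor (EtCoh.Ab S') n).map (EtBC.bcMap f g f' g' w adj K)) ≅
      Arrow.mk (homologyMap (bcChain f g f' g' w σ) n)) := by
  obtain ⟨a⟩ := nonempty_bcMap_arrowIso f g f' g' w adj I J σ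
  exact ⟨(DerivedCategory.homologyFunctor (EtCoh.Ab S') n).mapArrow.mapIso (bcMapCongr f g f' g' w adj e ≪≫ a) ≪≫
    Arrow.isoMk ((hqIso S' n).app _) ((hqIso S' n).app _) ((hqIso S' n).hom.naturality _).symm⟩

/-- the base change morphism is invertible iff the chain map is a quasi-isomorphism -/
theorem isIso_bcMap_iff (I : CochainComplex (EtCoh.Ab X) ℤ) [I.IsKInjective]
    (J : CochainComplex (EtCoh.Ab X') ℤ) [J.IsKInjective]
    (σ : ((EtCoh.pull g').mapHomologicalComplex (ComplexShape.up ℤ)).obj I ⟶ J) [QuasiIso σ] {K : DCoh.DEt X}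
    (e : K ≅ qq I) :
    IsIso (EtBC.bcMap f g f' g' w adj K) ↔ QuasiIso (bcChain f g f' g' w σ) := by
  obtain ⟨a⟩ := nonempty_bcMap_arrowIso f g f' g' w adj I J σ
  refine ((MorphismProperty.isomorphisms _).arrow_mk_iso_iff (bcMapCongr f g f' g' w adj e ≪≫ a)).trans ?_
  exact (NatIso.isIso_map_iff (DerivedCategory.quotientCompQhIso (EtCoh.Ab S')) _).trans
    (DerivedCategory.isIso_Q_map_iff_quasiIso _ _)

end Groth.Agent.BcBridge
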