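import Groth.Agent.CohPullX.EdgeOut
import Groth.Agent.RDerBC.Comparison
import Mathlib.CategoryTheory.Adjunction.Additive
import Mathlib.CategoryTheory.Adjunction.Limits

/-! transposes of maps of complexes and their effect on homology -/

set_option autoImplicit false
set_option linter.style.haveILetI false
set_option linter.unusedSectionVars false
set_option backward.isDefEq.respectTransparency false
set_option backward.isDefEq.respectTransparency.types false

open CategoryTheory CategoryTheory.Limits HomologicalComplex

namespace Groth.Agent.BcBridge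

universe vA vB vC vD uA uB uC uD

section Adj

variable {B : Type uB} [Category.{vB} B] [Abelian B] {D : Type uD} [Category.{vD} D] [Abelian D]
  {G : B ⥤ D} [G.Additive] {T : D ⥤ B} [T.Additive] (adj : G ⊣ T) {ι : Type} {c : ComplexShape ι}

/-- the transpose of a map of complexes -/
noncomputable def flat {C : HomologicalComplex B c} {M : HomologicalComplex D c}
    (χ : C ⟶ (T.mapHomologicalComplex c).obj M) : (G.mapHomologicalComplex c).obj C ⟶ M where
  f i := (adj.homEquiv _ _).symm (χ.f i)
  comm' i j _ := by
    rw [← adj.homEquiv_naturality_right_symm]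
    refine Eq.trans ?_ (adj.homEquiv_naturality_left_symm _ _)
    exact congrArg (adj.homEquiv _ _).symm (χ.comm i j)

theorem flat_f {C : HomologicalComplex B c} {M : HomologicalComplex D c}
    (χ : C ⟶ (T.mapHomologicalComplex c).obj M) (i : ι) : (flat adj χ).f i = (adj.homEquiv _ _).symm (χ.f i) := rfl

/-- the unit on complexes -/
noncomputable def etaCx (C : HomologicalComplex B c) :
    C ⟶ (T.mapHomologicalComplex c).obj ((G.mapHomologicalComplex c).obj C) where
  f i := adj.unit.app (C.X i)
  comm' i j _ := (adj.unit.naturality (C.d i j)).symm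

theorem etaCx_flat {C : HomologicalComplex B c} {M : HomologicalComplex D c}
    (χ : C ⟶ (T.mapHomologicalComplex c).obj M) :
    etaCx adj C ≫ (T.mapHomologicalComplex c).map (flat adj χ) = χ := by
  ext i
  exact (adj.homEquiv_unit _ _ _).symm.trans ((adj.homEquiv _ _).apply_symm_apply _)

theorem flat_etaCx {C : HomologicalComplex B c} {M : HomologicalComplex D c}
    (ψ : (G.mapHomologicalComplex c).obj C ⟶ M) :
    flat adj (etaCx adj C ≫ (T.mapHomologicalComplex c).map ψ) = ψ := by
  ext i
  exact (congrArg (adj.homEquiv _ _).symm (adj.homEquiv_unit _ _ _).symm).trans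
    ((adj.homEquiv _ _).symm_apply_apply _)

/-- the counit on complexes -/
noncomputable def epsCx (M : HomologicalComplex D c) :
    (G.mapHomologicalComplex c).obj ((T.mapHomologicalComplex c).obj M) ⟶ M where
  f i := adj.counit.app (M.X i)
  comm' i j _ := (adj.counit.naturality (M.d i j)).symm

theorem flat_eq {C : HomologicalComplex B c} {M : HomologicalComplex D c}
    (χ : C ⟶ (T.mapHomologicalComplex c).obj M) :
    flat adj χ = (G.mapHomologicalComplex c).map χ ≫ epsCx adj M := by
  ext i
  exact adj.homEquiv_counit _ _ _

/-- transposes of homotopic maps are homotopic -/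
noncomputable def flatHomotopy {C : HomologicalComplex B c} {M : HomologicalComplex D c}
    {χ χ' : C ⟶ (T.mapHomologicalComplex c).obj M} (h : Homotopy χ χ') : Homotopy (flat adj χ) (flat adj χ') :=
  ((Homotopy.ofEq (flat_eq adj χ)).trans ((G.mapHomotopy h).compRight (epsCx adj M))).trans
    (Homotopy.ofEq (flat_eq adj χ').symm)

variable [PreservesFiniteLimits G] [PreservesFiniteLimits T]

theorem cyclesMap_flat {C : HomologicalComplex B c} {M : HomologicalComplex D c}
    (χ : C ⟶ (T.mapHomologicalComplex c).obj M) (i : ι) :
    cyclesMap (flat adj χ) i =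
      RDer.cyclesComparison G C i ≫ (adj.homEquiv _ _).symm (cyclesMap χ i ≫ RDer.cyclesComparison T M i) := by
  rw [← cancel_mono (M.iCycles i), cyclesMap_i, flat_f, Category.assoc, ← adj.homEquiv_naturality_right_symm,
    Category.assoc, RDer.cyclesComparison_i, cyclesMap_i, adj.homEquiv_naturality_left_symm,
    RDer.cyclesComparison_i_assoc]

theorem homologyMap_flat {C : HomologicalComplex B c} {M : HomologicalComplex D c}
    (χ : C ⟶ (T.mapHomologicalComplex c).obj M) (i : ι) :
    homologyMap (flat adj χ) i =
      RDer.homologyComparison G C i ≫ (adj.homEquiv _ _).symm (homologyMap χ i ≫ RDer.homologyComparison T M i) := by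
  rw [← cancel_epi (((G.mapHomologicalComplex c).obj C).homologyπ i), RDer.homologyπ_homologyComparison_assoc,
    ← adj.homEquiv_naturality_left_symm, homologyπ_naturality_assoc, RDer.homologyπ_homologyComparison,
    homologyπ_naturality, cyclesMap_flat, Category.assoc, ← adj.homEquiv_naturality_right_symm, Category.assoc]

theorem isIso_homologyComparison [PreservesFiniteColimits G] (C : HomologicalComplex B c) (i : ι) :
    IsIso (RDer.homologyComparison G C i) :=
  CohPullX.isIso_homologyComparison_of_cokernel G C i (c.prev i) rfl
    ((ShortComplex.exact_of_g_is_cokernel (ShortComplex.mk _ _ (C.toCycles_comp_homologyπ _ i))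
      (C.homologyIsCokernel _ i rfl)).map G) inferInstance

end Adj

section Sq

variable {A : Type uA} [Category.{vA} A] [Abelian A] {B : Type uB} [Category.{vB} B] [Abelian B]
  {C : Type uC} [Category.{vC} C] [Abelian C] {D : Type uD} [Category.{vD} D] [Abelian D]
  {P : A ⥤ B} {Q : A ⥤ C} {S : C ⥤ D} {T : D ⥤ B} {G : B ⥤ D} (adj : G ⊣ T) (ptp : P ⟶ Q ⋙ S ⋙ T)

/-- the transpose of a square -/
noncomputable def theta : P ⋙ G ⟶ Q ⋙ S where
  app M := (adj.homEquiv _ _).symm (ptp.app M)
  naturality M N a := by
    refine (adj.homEquiv_naturality_left_symm _ _).symm.trans ?_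
    refine Eq.trans ?_ (adj.homEquiv_naturality_right_symm _ _)
    exact congrArg (adj.homEquiv _ _).symm (ptp.naturality a)

variable [P.Additive] [Q.Additive] [S.Additive] [G.Additive] [T.Additive] {ι : Type} {c : ComplexShape ι}

/-- the map of complexes attached to a square and a map out of the inverse image -/
noncomputable def bcCx {K : HomologicalComplex A c} {L : HomologicalComplex C c}
    (σ : (Q.mapHomologicalComplex c).obj K ⟶ L) :
    (G.mapHomologicalComplex c).obj ((P.mapHomologicalComplex c).obj K) ⟶ (S.mapHomologicalComplex c).obj L :=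
  (NatTrans.mapHomologicalComplex (theta adj ptp) c).app K ≫ (S.mapHomologicalComplex c).map σ

theorem bcCx_f {K : HomologicalComplex A c} {L : HomologicalComplex C c}
    (σ : (Q.mapHomologicalComplex c).obj K ⟶ L) (i : ι) :
    (bcCx adj ptp σ).f i = (adj.homEquiv _ _).symm (ptp.app (K.X i)) ≫ S.map (σ.f i) := rfl

/-- the untransposed map of complexes -/
noncomputable def preCx {K : HomologicalComplex A c} {L : HomologicalComplex C c}
    (σ : (Q.mapHomologicalComplex c).obj K ⟶ L) :
    (P.mapHomologicalComplex c).obj K ⟶ (T.mapHomologicalComplex c).obj ((S.mapHomologicalComplex c).obj L) :=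
  (NatTrans.mapHomologicalComplex ptp c).app K ≫ (T.mapHomologicalComplex c).map ((S.mapHomologicalComplex c).map σ)

theorem flat_preCx {K : HomologicalComplex A c} {L : HomologicalComplex C c}
    (σ : (Q.mapHomologicalComplex c).obj K ⟶ L) : flat adj (preCx ptp σ) = bcCx adj ptp σ := by
  ext i
  exact adj.homEquiv_naturality_right_symm _ _

end Sq

end Groth.Agent.BcBridge
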