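import Groth.Agent.BcBridge.Paste
import Groth.Agent.EtBC.Local

/-! étale localization of the chain maps of base change -/

set_option autoImplicit false
set_option linter.style.haveILetI false

universe u

open CategoryTheory CategoryTheory.Limits AlgebraicGeometry HomologicalComplex

attribute [local instance] HasDerivedCategory.standard

namespace Groth.Agent.BcBridge

open Groth.Agent.EtLimit Groth.Agent.EtFound

set_option backward.isDefEq.respectTransparency.types false

/-- inverse images along étale morphisms preserve K-injectivity -/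
theorem isKInjective_pull {U X : Scheme.{u}} (j : U ⟶ X) [AlgebraicGeometry.Etale j]
    (I : CochainComplex (EtCoh.Ab X) ℤ) [I.IsKInjective] :
    CochainComplex.IsKInjective (((EtCoh.pull j).mapHomologicalComplex (ComplexShape.up ℤ)).obj I) := by
  haveI := jCont j
  let a := (EtShriek.extZeroAdj j).ofNatIsoRight (EtLC12.AffineLocalAcyclic.restrIsoPull j)
  haveI := extZero_preservesFiniteLimits j
  haveI : PreservesFiniteColimits (EtShriek.extZero j) :=
    haveI : PreservesColimitsOfSize.{0, 0} (EtShriek.extZero j) := a.leftAdjoint_preservesColimits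
    PreservesColimitsOfSize.preservesFiniteColimits _
  haveI : (EtShriek.extZero j).Additive := a.left_adjoint_additive
  exact SiteBase.isKInjective_map a I

variable {X S X' S' : Scheme.{u}} {f : X ⟶ S} {g : S' ⟶ S} {f' : X' ⟶ S'} {g' : X' ⟶ X}

/-- the chain map of an étale base change -/
theorem quasiIso_bcChain_etale [AlgebraicGeometry.Etale g] (c : IsPullback g' f' f g)
    (I : CochainComplex (EtCoh.Ab X) ℤ) :
    QuasiIso (bcChain f g f' g' c.w (𝟙 (((EtCoh.pull g').mapHomologicalComplex (ComplexShape.up ℤ)).obj I))) := by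
  haveI : AlgebraicGeometry.Etale g' := MorphismProperty.of_isPullback c.flip inferInstance
  haveI := jCont g'
  have : ∀ n, IsIso
      ((bcChain f g f' g' c.w (𝟙 (((EtCoh.pull g').mapHomologicalComplex (ComplexShape.up ℤ)).obj I))).f n) := by
    intro n
    show IsIso ((theta (EtCoh.pullPushAdj g) (EtBC.pushToPushPull f g f' g' c.w)).app (I.X n) ≫
      (EtCoh.push f').map (𝟙 _))
    rw [theta_app]
    haveI := EtBC.isIso_baseChange0_etale c (I.X n)
    infer_instance
  haveI := HomologicalComplex.Hom.isIso_of_components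
    (bcChain f g f' g' c.w (𝟙 (((EtCoh.pull g').mapHomologicalComplex (ComplexShape.up ℤ)).obj I)))
  infer_instance

/-- being a quasi-isomorphism is local for étale covers -/
theorem quasiIso_of_covers {Z : Scheme.{u}} {ι : Type u} (U : ι → Z.Etale) (hU : EtCoh.Covers U) {c : ComplexShape ℤ}
    {K L : HomologicalComplex (EtCoh.Ab Z) c} (φ : K ⟶ L)
    (h : ∀ i, QuasiIso (((EtCoh.pull (U i).hom).mapHomologicalComplex c).map φ)) : QuasiIso φ := by
  refine ⟨fun n => (quasiIsoAt_iff_isIso_homologyMap _ _).2 ((isIso_iff_stalks _).2 fun Ω _ _ ξ => ?_)⟩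
  obtain ⟨i, x, hx⟩ := hU (ξ.base default)
  haveI : AlgebraicGeometry.Etale (U i).hom := (U i).prop
  obtain ⟨η, hη, -⟩ := Scheme.exists_fac_of_etale_of_isSepClosed (U i).hom ξ x hx
  refine EtBC.isIso_stalk_of_pull (U i).hom _ ?_ ξ η hη
  haveI := pull_preservesFiniteLimits (U i).hom
  haveI := isIso_homologyComparison (G := EtCoh.pull (U i).hom) K n
  haveI := isIso_homologyComparison (G := EtCoh.pull (U i).hom) L n
  haveI : IsIso (homologyMap (((EtCoh.pull (U i).hom).mapHomologicalComplex c).map φ) n) :=
    (quasiIsoAt_iff_isIso_homologyMap _ _).1 ((h i).quasiIsoAt n)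
  have e := RDerBC.homologyComparison_natural (EtCoh.pull (U i).hom) φ n
  haveI : IsIso (RDer.homologyComparison (EtCoh.pull (U i).hom) K n ≫
      (EtCoh.pull (U i).hom).map (homologyMap φ n)) := by
    rw [← e]
    infer_instance
  exact IsIso.of_isIso_comp_left (RDer.homologyComparison (EtCoh.pull (U i).hom) K n) _

end Groth.Agent.BcBridge
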