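import Groth.Agent.BcBridge.Single
import Groth.Agent.EtBC.Paste0

/-! chain maps of base change paste -/

set_option autoImplicit false
set_option linter.style.haveILetI false

universe u

open CategoryTheory CategoryTheory.Limits AlgebraicGeometry HomologicalComplex

attribute [local instance] HasDerivedCategory.standard

namespace Groth.Agent.BcBridge

open Groth.Agent.EtLimit Groth.Agent.EtFound

set_option backward.isDefEq.respectTransparency.types false

/-- the composite of two inverse images of a complex -/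
noncomputable def θCx {X Y Z : Scheme.{u}} (p : Z ⟶ Y) (v : Y ⟶ X) (c : Z ⟶ X) (h : p ≫ v = c) {ι : Type}
    {s : ComplexShape ι} (K : HomologicalComplex (EtCoh.Ab X) s) :
    ((EtCoh.pull p).mapHomologicalComplex s).obj (((EtCoh.pull v).mapHomologicalComplex s).obj K) ≅
      ((EtCoh.pull c).mapHomologicalComplex s).obj K :=
  HomologicalComplex.Hom.isoOfComponents (fun i => (θPull p v c h).app (K.X i))
    fun i j _ => ((θPull p v c h).hom.naturality (K.d i j)).symm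

/-- the composite of two maps out of inverse images -/
noncomputable def compMapσ {X Y Z : Scheme.{u}} {p : Z ⟶ Y} {v : Y ⟶ X} {c : Z ⟶ X} (h : p ≫ v = c)
    {ι : Type} {s : ComplexShape ι} {K : HomologicalComplex (EtCoh.Ab X) s} {L : HomologicalComplex (EtCoh.Ab Y) s}
    {M : HomologicalComplex (EtCoh.Ab Z) s} (σ : ((EtCoh.pull v).mapHomologicalComplex s).obj K ⟶ L)
    (σ₂ : ((EtCoh.pull p).mapHomologicalComplex s).obj L ⟶ M) :
    ((EtCoh.pull c).mapHomologicalComplex s).obj K ⟶ M :=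
  (θCx p v c h K).inv ≫ ((EtCoh.pull p).mapHomologicalComplex s).map σ ≫ σ₂

theorem quasiIso_compMapσ {X Y Z : Scheme.{u}} {p : Z ⟶ Y} {v : Y ⟶ X} {c : Z ⟶ X} (h : p ≫ v = c)
    [PreservesFiniteLimits (EtCoh.pull p)]
    {ι : Type} {s : ComplexShape ι} {K : HomologicalComplex (EtCoh.Ab X) s} {L : HomologicalComplex (EtCoh.Ab Y) s}
    {M : HomologicalComplex (EtCoh.Ab Z) s} (σ : ((EtCoh.pull v).mapHomologicalComplex s).obj K ⟶ L) [QuasiIso σ]
    (σ₂ : ((EtCoh.pull p).mapHomologicalComplex s).obj L ⟶ M) [QuasiIso σ₂] : QuasiIso (compMapσ h σ σ₂) := by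
  unfold compMapσ
  infer_instance

/-- the chain of the pasting identity, over atoms -/
theorem paste_chain {C : Type*} [Category* C] {a b c c' d e e' : C} {θ : a ⟶ b} {bc : b ⟶ c} {q₁ : a ⟶ d}
    {q₂ : d ⟶ e} {q₃ : e ⟶ c} {u : c ⟶ c'} {m : d ⟶ e'} {n : e' ⟶ c'} (h : θ ≫ bc = q₁ ≫ q₂ ≫ q₃)
    (h' : q₂ ≫ q₃ ≫ u = m ≫ n) : θ ≫ bc ≫ u = (q₁ ≫ m) ≫ n := by
  rw [reassoc_of% h, h', Category.assoc]

theorem map_chain {C : Type*} [Category* C] {D : Type*} [Category* D] (F : C ⥤ D) {a b c d : C}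
    {t : a ⟶ b} {ti : b ⟶ a} {r : a ⟶ c} {r₂ : c ⟶ d} (h : t ≫ ti = 𝟙 a) :
    F.map t ≫ F.map (ti ≫ r ≫ r₂) = F.map r ≫ F.map r₂ := by
  rw [← F.map_comp, reassoc_of% h, F.map_comp]

variable {X S X' S' X'' S'' : Scheme.{u}} {f : X ⟶ S} {g : S' ⟶ S} {f' : X' ⟶ S'} {g' : X' ⟶ X}
  (w : g' ≫ f = f' ≫ g) {g₂ : S'' ⟶ S'} {f'' : X'' ⟶ S''} {g₂' : X'' ⟶ X'} (w₂ : g₂' ≫ f' = f'' ≫ g₂)
  {gc : S'' ⟶ S} {gc' : X'' ⟶ X} (hg : g₂ ≫ g = gc) (hg' : g₂' ≫ g' = gc') (wc : gc' ≫ f = f'' ≫ gc)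

set_option maxHeartbeats 1000000 in
/-- pasting of the chain maps -/
theorem bcChain_paste {ι : Type} {s : ComplexShape ι} {K : HomologicalComplex (EtCoh.Ab X) s}
    {L : HomologicalComplex (EtCoh.Ab X') s} {M : HomologicalComplex (EtCoh.Ab X'') s}
    (σ : ((EtCoh.pull g').mapHomologicalComplex s).obj K ⟶ L)
    (σ₂ : ((EtCoh.pull g₂').mapHomologicalComplex s).obj L ⟶ M) :
    (θCx g₂ g gc hg (((EtCoh.push f).mapHomologicalComplex s).obj K)).hom ≫
        bcChain f gc f'' gc' wc (compMapσ hg' σ σ₂) =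
      ((EtCoh.pull g₂).mapHomologicalComplex s).map (bcChain f g f' g' w σ) ≫ bcChain f' g₂ f'' g₂' w₂ σ₂ := by
  refine HomologicalComplex.hom_ext _ _ fun i => ?_
  let θ := θPull g₂' g' gc' hg'
  show (θPull g₂ g gc hg).hom.app ((EtCoh.push f).obj (K.X i)) ≫
      ((theta (EtCoh.pullPushAdj gc) (EtBC.pushToPushPull f gc f'' gc' wc)).app (K.X i) ≫
        (EtCoh.push f'').map (θ.inv.app (K.X i) ≫ (EtCoh.pull g₂').map (σ.f i) ≫ σ₂.f i)) =
    (EtCoh.pull g₂).map ((theta (EtCoh.pullPushAdj g) (EtBC.pushToPushPull f g f' g' w)).app (K.X i) ≫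
        (EtCoh.push f').map (σ.f i)) ≫
      (theta (EtCoh.pullPushAdj g₂) (EtBC.pushToPushPull f' g₂ f'' g₂' w₂)).app (L.X i) ≫
        (EtCoh.push f'').map (σ₂.f i)
  rw [theta_app, theta_app, theta_app, Functor.map_comp (EtCoh.pull g₂)]
  refine paste_chain (EtBC.baseChange0_paste w w₂ hg hg' wc (K.X i)) ?_
  refine Eq.trans (congrArg (EtCoh.baseChange0 f' g₂ f'' g₂' w₂ ((EtCoh.pull g').obj (K.X i)) ≫ ·)
    (map_chain (EtCoh.push f'') (θ.hom_inv_id_app (K.X i)))) ?_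
  have e := (theta (EtCoh.pullPushAdj g₂) (EtBC.pushToPushPull f' g₂ f'' g₂' w₂)).naturality (σ.f i)
  rw [theta_app, theta_app] at e
  exact (Category.assoc _ _ _).symm.trans ((congrArg (· ≫ (EtCoh.push f'').map (σ₂.f i)) e.symm).trans
    (Category.assoc _ _ _))

variable [PreservesFiniteLimits (EtCoh.pull g₂)]

include w w₂ hg in
/-- a composite of two quasi-isomorphisms -/
theorem quasiIso_bcChain_comp {ι : Type} {s : ComplexShape ι} {K : HomologicalComplex (EtCoh.Ab X) s}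
    {L : HomologicalComplex (EtCoh.Ab X') s} {M : HomologicalComplex (EtCoh.Ab X'') s}
    (σ : ((EtCoh.pull g').mapHomologicalComplex s).obj K ⟶ L)
    (σ₂ : ((EtCoh.pull g₂').mapHomologicalComplex s).obj L ⟶ M) (h₁ : QuasiIso (bcChain f g f' g' w σ))
    (h₂ : QuasiIso (bcChain f' g₂ f'' g₂' w₂ σ₂)) : QuasiIso (bcChain f gc f'' gc' wc (compMapσ hg' σ σ₂)) := by
  have : QuasiIso ((θCx g₂ g gc hg (((EtCoh.push f).mapHomologicalComplex s).obj K)).hom ≫
      bcChain f gc f'' gc' wc (compMapσ hg' σ σ₂)) := by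
    rw [bcChain_paste w w₂ hg hg' wc]
    infer_instance
  exact quasiIso_of_comp_left (θCx g₂ g gc hg (((EtCoh.push f).mapHomologicalComplex s).obj K)).hom _

section Models

/-- every object has a K-injective model -/
theorem exists_model (Z : Scheme.{u}) (K : DCoh.DEt Z) :
    ∃ (I : CochainComplex (EtCoh.Ab Z) ℤ) (_ : I.IsKInjective), Nonempty (K ≅ qq I) := by
  obtain ⟨I, q, hI, hq⟩ := S4329.Aux.exists_kInj Z ((DerivedCategory.Q (C := EtCoh.Ab Z)).objPreimage K)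
  exact ⟨I, hI, ⟨((DerivedCategory.quotientCompQhIso _).app I ≪≫ (@asIso _ _ _ _ (DerivedCategory.Q.map q) inferInstance).symm ≪≫
    (DerivedCategory.Q (C := EtCoh.Ab Z)).objObjPreimageIso K).symm⟩⟩

/-- the model of an inverse image -/
theorem exists_pull_model {Y Z : Scheme.{u}} (p : Z ⟶ Y) [PreservesFiniteLimits (EtCoh.pull p)]
    (I : CochainComplex (EtCoh.Ab Y) ℤ) :
    ∃ (J : CochainComplex (EtCoh.Ab Z) ℤ) (σ : ((EtCoh.pull p).mapHomologicalComplex (ComplexShape.up ℤ)).obj I ⟶ J),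
      J.IsKInjective ∧ QuasiIso σ :=
  S4329.Aux.exists_kInj Z _

/-- the inverse image of a model -/
noncomputable def pullModelIso {Y Z : Scheme.{u}} (p : Z ⟶ Y) [PreservesFiniteLimits (EtCoh.pull p)]
    {I : CochainComplex (EtCoh.Ab Y) ℤ} {J : CochainComplex (EtCoh.Ab Z) ℤ}
    (σ : ((EtCoh.pull p).mapHomologicalComplex (ComplexShape.up ℤ)).obj I ⟶ J) [QuasiIso σ] :
    (EtBC.pullD p).obj (qq I) ≅ qq J :=
  (EtCoh.pull p).mapDerivedCategoryFactorsh.app ((HomotopyCategory.quotient _ (ComplexShape.up ℤ)).obj I) ≪≫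
    @asIso _ _ _ _ (qm σ) (isIso_qm σ)

end Models

end Groth.Agent.BcBridge
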